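import Groth.Prelude.Def_SGA7a
import Mathlib.FieldTheory.Galois.Infinite
import Mathlib.FieldTheory.IsSepClosed
import Mathlib.RingTheory.DedekindDomain.IntegralClosure
import Mathlib.RingTheory.DedekindDomain.PID
import Mathlib.RingTheory.DiscreteValuationRing.Basic
import Mathlib.RingTheory.Norm.Transitivity
import Mathlib.RingTheory.Valuation.ValuationRing
import Mathlib.RingTheory.Bezout
import Mathlib.Algebra.GCDMonoid.IntegrallyClosed
import Mathlib.RingTheory.Trace.Basic
import Mathlib.RingTheory.Polynomial.Eisenstein.Basic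
import Mathlib.RingTheory.Polynomial.GaussLemma
import Mathlib.RingTheory.RamificationInertia.Basic

/-!
When the whole Galois group is inertia, the Galois extensions of degree prime to the residue
characteristic are generated by a root of a uniformizer.
-/

set_option autoImplicit false
set_option linter.style.haveILetI false
set_option linter.unusedSectionVars false

universe u

open Polynomial
open scoped IntermediateField

namespace Groth.Agent.Lib.TameUniq.Basic

variable {R K Ω : Type u} [CommRing R] [IsDomain R] [IsDiscreteValuationRing R] [Field K]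
  [Algebra R K] [IsFractionRing R K] [Field Ω] [Algebra K Ω] [IsSepClosure K Ω] [Algebra R Ω]
  [IsScalarTower R K Ω] (W : ValuationSubring Ω) (hW : SGA7.LiesOver K R W)

include hW in
theorem v_le_one (c : R) : W.valuation (algebraMap R Ω c) ≤ 1 := by
  rw [IsScalarTower.algebraMap_apply R K Ω, ValuationSubring.valuation_le_one_iff]
  exact hW.1 c

include hW in
theorem v_lt_one {c : R} (hc : c ∈ IsLocalRing.maximalIdeal R) : W.valuation (algebraMap R Ω c) < 1 := by
  rw [IsScalarTower.algebraMap_apply R K Ω]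
  exact hW.2 c hc

include hW in
theorem v_natCast {r : ℕ} (hrk : (r : IsLocalRing.ResidueField R) ≠ 0) :
    W.valuation (r : Ω) = 1 := by
  have hu : IsUnit (r : R) := by
    by_contra h
    apply hrk
    rw [← map_natCast (IsLocalRing.residue R), IsLocalRing.residue_eq_zero_iff]
    exact h
  obtain ⟨u, hu⟩ := hu
  refine le_antisymm ?_ ?_
  · rw [← map_natCast (algebraMap R Ω)]
    exact v_le_one W hW _
  · have h := v_le_one W hW (↑u⁻¹ : R)
    calc (1 : _) = W.valuation (r : Ω) * W.valuation (algebraMap R Ω ↑u⁻¹) := by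
          rw [← map_mul, ← map_natCast (algebraMap R Ω), ← map_mul, ← hu, Units.mul_inv, map_one, map_one]
      _ ≤ _ := mul_le_of_le_one_right' h

include hW in
theorem mem_of_isIntegral {x : Ω} (hx : IsIntegral R x) : x ∈ W := by
  letI : Algebra R W := ((algebraMap R Ω).codRestrict W.toSubring fun c =>
    (W.valuation_le_one_iff _).1 (v_le_one W hW c)).toAlgebra
  haveI : IsScalarTower R W Ω := IsScalarTower.of_algebraMap_eq' rfl
  obtain ⟨y, hy⟩ := IsIntegrallyClosed.algebraMap_eq_of_integral (R := W) (K := Ω) hx.tower_top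
  rw [← hy]
  exact y.2

variable (hI : ∀ σ : Ω ≃ₐ[K] Ω, SGA7.IsInertia W σ)

include hW hI in
theorem mem_of_pow_mem {r : ℕ} (hrk : (r : IsLocalRing.ResidueField R) ≠ 0)
    (L : IntermediateField K Ω) {y : Ω} (hy : W.valuation y = 1) (hyr : y ^ r ∈ L) : y ∈ L := by
  haveI : IsGalois K Ω := inferInstance
  rw [← InfiniteGalois.fixedField_fixingSubgroup L]
  intro ⟨σ, hσ⟩
  change σ y = y
  have hσr : σ (y ^ r) = y ^ r := (IntermediateField.mem_fixingSubgroup_iff L σ).1 hσ _ hyr
  have hy0 : y ≠ 0 := by rintro rfl; simp at hy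
  have hlt := (hI σ y ((W.valuation_le_one_iff y).1 hy.le)).2
  by_contra hne
  let ζ := σ y / y
  have hζr : ζ ^ r = 1 := by
    rw [div_pow, ← map_pow, hσr, div_self (pow_ne_zero _ hy0)]
  have hζ1 : ζ - 1 ≠ 0 := by
    rw [sub_ne_zero, Ne, div_eq_one_iff_eq hy0]
    exact hne
  have hs : ∑ i ∈ Finset.range r, ζ ^ i = 0 := by
    have := geom_sum_mul ζ r
    rw [hζr, sub_self, mul_eq_zero] at this
    exact this.resolve_right hζ1
  have hvs : W.valuation (ζ - 1) < 1 := by
    rw [show ζ - 1 = (σ y - y) / y by simp [ζ, sub_div, div_self hy0], map_div₀, hy, div_one]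
    exact hlt
  have hvζ : W.valuation ζ ≤ 1 := by
    rw [map_div₀, hy, div_one, W.valuation_le_one_iff]
    exact (hI σ y ((W.valuation_le_one_iff y).1 hy.le)).1
  have hr : W.valuation (r : Ω) < 1 := by
    have e : (r : Ω) = ∑ i ∈ Finset.range r, (1 - ζ ^ i) := by
      rw [Finset.sum_sub_distrib, hs, sub_zero]
      simp
    rw [e]
    refine W.valuation.map_sum_lt' zero_lt_one fun i _ => ?_
    rw [Valuation.map_sub_swap, ← geom_sum_mul ζ i, map_mul]
    refine lt_of_le_of_lt (mul_le_of_le_one_left' ?_) hvs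
    exact W.valuation.map_sum_le fun j _ => by
      rw [map_pow]
      exact pow_le_one₀ zero_le' hvζ
  exact hr.ne (v_natCast W hW hrk)

variable (L : IntermediateField K Ω)

include hW in
theorem v_le_one_int (o : integralClosure R L) : W.valuation ((o : L) : Ω) ≤ 1 :=
  (W.valuation_le_one_iff _).2 (mem_of_isIntegral W hW
    (o.2.map ((L.val).restrictScalars R)))

theorem coe_algMap (c : R) : ((algebraMap R L c : L) : Ω) = algebraMap R Ω c := by
  rw [IsScalarTower.algebraMap_apply R K L, IsScalarTower.algebraMap_apply R K Ω]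
  rfl

variable [IsGalois K L] [FiniteDimensional K L]

include hI in
theorem v_sub_lt (τ : L ≃ₐ[K] L) {x : L} (hx : W.valuation (x : Ω) ≤ 1) :
    W.valuation ((τ x : L) - (x : Ω)) < 1 := by
  obtain ⟨σ, rfl⟩ := AlgEquiv.restrictNormalHom_surjective (F := K) (K₁ := L) Ω τ
  have := (hI σ x ((W.valuation_le_one_iff _).1 hx)).2
  rwa [show ((AlgEquiv.restrictNormalHom L σ x : L) : Ω) = σ x from
    AlgEquiv.restrictNormal_commutes σ L x]

/-- Galois conjugates in the integral closure. -/
def conj (τ : L ≃ₐ[K] L) (o : integralClosure R L) : integralClosure R L :=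
  ⟨τ o, o.2.map (τ.toAlgHom.restrictScalars R)⟩

theorem exists_algebraMap_eq {z : integralClosure R L} {a : K} (h : algebraMap K L a = (z : L)) :
    ∃ c : R, algebraMap R (integralClosure R L) c = z := by
  have ha : IsIntegral R a := (isIntegral_algebraMap_iff (algebraMap K L).injective).1 (h ▸ z.2)
  obtain ⟨c, hc⟩ := IsIntegrallyClosed.algebraMap_eq_of_integral ha
  refine ⟨c, Subtype.ext ?_⟩
  rw [← h, ← hc, ← IsScalarTower.algebraMap_apply R K L]
  rfl

include hI hW in
theorem v_lt_one_of_mem (P : Ideal (integralClosure R L)) [P.IsPrime]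
    (hP : P.comap (algebraMap R _) = IsLocalRing.maximalIdeal R) {o : integralClosure R L}
    (ho : o ∈ P) : W.valuation ((o : L) : Ω) < 1 := by
  classical
  let N := ∏ τ : L ≃ₐ[K] L, conj L τ o
  have hN : algebraMap K L (Algebra.norm K (o : L)) = (N : L) := by
    rw [Algebra.norm_eq_prod_automorphisms]
    simp [N, conj]
  obtain ⟨c, hc⟩ := exists_algebraMap_eq L hN
  have hNP : N ∈ P := P.mem_of_dvd (Finset.dvd_prod_of_mem _ (Finset.mem_univ (AlgEquiv.refl (R := K) (A₁ := L)))) (by
    simpa [conj] using ho)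
  have hcm : c ∈ IsLocalRing.maximalIdeal R := by
    rw [← hP, Ideal.mem_comap, hc]
    exact hNP
  have hvN : W.valuation ((N : L) : Ω) < 1 := by
    rw [← hc]
    exact v_lt_one W hW hcm
  by_contra h
  have h1 : W.valuation ((o : L) : Ω) = 1 := le_antisymm (v_le_one_int W hW L o) (not_lt.1 h)
  refine hvN.ne ?_
  have e : ((N : L) : Ω) = ∏ τ : L ≃ₐ[K] L, ((τ (o : L) : L) : Ω) := by simp [N, conj]
  rw [e, map_prod]
  refine Finset.prod_eq_one fun τ _ => ?_
  refine (W.valuation.map_eq_of_sub_lt ?_).trans h1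
  rw [h1]
  exact v_sub_lt W hI L τ h1.le

include hI hW in
theorem exists_sub_mem {r : ℕ} (hrk : (r : IsLocalRing.ResidueField R) ≠ 0)
    (hr : Module.finrank K L = r) (o : integralClosure R L) :
    ∃ c : R, W.valuation ((o : L) - algebraMap R Ω c) < 1 := by
  classical
  haveI : IsScalarTower R L Ω := IsScalarTower.of_algebraMap_eq fun c => by
    rw [IsScalarTower.algebraMap_apply R K L, ← IsScalarTower.algebraMap_apply K L Ω,
      ← IsScalarTower.algebraMap_apply R K Ω]
  let T := ∑ τ : L ≃ₐ[K] L, conj L τ o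
  have hT : algebraMap K L (Algebra.trace K L (o : L)) = (T : L) := by
    rw [trace_eq_sum_automorphisms]
    simp [T, conj]
  obtain ⟨c, hc⟩ := exists_algebraMap_eq L hT
  have hu : IsUnit (r : R) := by
    by_contra h
    apply hrk
    rw [← map_natCast (IsLocalRing.residue R), IsLocalRing.residue_eq_zero_iff]
    exact h
  obtain ⟨u, hu⟩ := hu
  refine ⟨↑u⁻¹ * c, ?_⟩
  have hr0 := v_natCast W hW hrk
  have hrinv : algebraMap R Ω ↑u⁻¹ * (r : Ω) = 1 := by
    rw [← map_natCast (algebraMap R Ω), ← map_mul, ← hu, Units.inv_mul, map_one]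
  have hcT : algebraMap R Ω c = ∑ τ : L ≃ₐ[K] L, ((τ (o : L) : L) : Ω) := by
    have := congrArg (fun z : integralClosure R L => ((z : L) : Ω)) hc
    simpa [T, conj, coe_algMap] using this
  have hcard : Fintype.card (L ≃ₐ[K] L) = r := by
    rw [← Nat.card_eq_fintype_card, IsGalois.card_aut_eq_finrank, hr]
  have e : ((o : L) : Ω) - algebraMap R Ω (↑u⁻¹ * c) =
      -(algebraMap R Ω ↑u⁻¹) * ∑ τ : L ≃ₐ[K] L, (((τ (o : L) : L) : Ω) - ((o : L) : Ω)) := by
    rw [Finset.sum_sub_distrib, map_mul, hcT]
    rw [Finset.sum_const, Finset.card_univ, hcard, nsmul_eq_mul]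
    linear_combination (-((o : L) : Ω)) * hrinv
  rw [e, map_mul, Valuation.map_neg]
  refine lt_of_le_of_lt (mul_le_of_le_one_left' (v_le_one W hW _)) ?_
  exact W.valuation.map_sum_lt' zero_lt_one fun τ _ => v_sub_lt W hI L τ (v_le_one_int W hW L o)

include hI hW in
theorem totally_ramified {r : ℕ} (hrk : (r : IsLocalRing.ResidueField R) ≠ 0)
    (hr : Module.finrank K L = r) {π : R} (hπ : Irreducible π) :
    (∀ P : Ideal (integralClosure R L), P.IsMaximal → P.ramificationIdx R = r) ∧
      ∃ y ∈ L, y ^ r = algebraMap R Ω π := by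
  let O := integralClosure R L
  haveI : IsSepClosed Ω := IsSepClosure.sep_closed K
  have hr0 : r ≠ 0 := by
    rintro rfl
    simp at hrk
  haveI : Module.Finite R O := IsIntegralClosure.finite R K L O
  haveI : IsDedekindDomain O := IsIntegralClosure.isDedekindDomain R K L O
  haveI : IsFractionRing O L := integralClosure.isFractionRing_of_finite_extension K L
  haveI : FaithfulSMul R L := by
    rw [faithfulSMul_iff_algebraMap_injective, IsScalarTower.algebraMap_eq R K L]
    exact (algebraMap K L).injective.comp (IsFractionRing.injective R K)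
  haveI : Module.IsTorsionFree R O := by
    refine Module.isTorsionFree_iff_algebraMap_injective.2 fun a b h => ?_
    exact FaithfulSMul.algebraMap_injective R L (congrArg (fun z : O => (z : L)) h)
  haveI : Algebra.IsIntegral R O := IsIntegralClosure.isIntegral_algebra R L
  let ι : O →+* W := (algebraMap L Ω).comp (algebraMap O L) |>.codRestrict W.toSubring fun o =>
    (W.valuation_le_one_iff _).1 (v_le_one_int W hW L o)
  let P0 : Ideal O := (IsLocalRing.maximalIdeal W).comap ι
  have hP0 : ∀ o : O, o ∈ P0 ↔ W.valuation ((o : L) : Ω) < 1 := fun o =>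
    (W.valuation_lt_one_iff (ι o)).trans Iff.rfl
  have hunder : ∀ P : Ideal O, P.IsMaximal → P.comap (algebraMap R O) = IsLocalRing.maximalIdeal R :=
    fun P hP => IsLocalRing.eq_maximalIdeal (Ideal.isMaximal_comap_of_isIntegral_of_isMaximal P)
  have huniq : ∀ P : Ideal O, P.IsMaximal → P = P0 := fun P hP =>
    hP.eq_of_le Ideal.IsPrime.ne_top' fun o ho =>
      (hP0 o).2 (v_lt_one_of_mem W hW hI L P (hunder P hP) ho)
  obtain ⟨P1, hP1⟩ := Ideal.exists_maximal O
  haveI : IsLocalRing O := IsLocalRing.of_unique_max_ideal ⟨P1, hP1, fun P hP =>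
    (huniq P hP).trans (huniq P1 hP1).symm⟩
  have hmax : IsLocalRing.maximalIdeal O = P0 := huniq _ inferInstance
  haveI hP0max : P0.IsMaximal := hmax ▸ inferInstance
  haveI : P0.LiesOver (IsLocalRing.maximalIdeal R) := ⟨(hunder P0 hP0max).symm⟩
  have hm0 : IsLocalRing.maximalIdeal R ≠ ⊥ := IsDiscreteValuationRing.not_a_field R
  have hset : (IsLocalRing.maximalIdeal R).primesOver O = {P0} := by
    ext Q
    constructor
    · rintro ⟨hQ, hQo⟩
      exact huniq Q (Ideal.IsMaximal.of_liesOver_isMaximal Q (IsLocalRing.maximalIdeal R))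
    · rintro rfl
      exact ⟨hP0max.isPrime, inferInstance⟩
  haveI : Fintype ((IsLocalRing.maximalIdeal R).primesOver O) := by rw [hset]; infer_instance
  have hsum := Ideal.sum_ramification_inertia_eq_finrank (IsLocalRing.maximalIdeal R) O
  rw [Finset.sum_eq_single_of_mem (⟨P0, hset ▸ rfl⟩ : (IsLocalRing.maximalIdeal R).primesOver O)
    (Finset.mem_univ _) (fun Q _ hQ => absurd (Subtype.ext (show Q.1 = P0 from Set.mem_singleton_iff.1 (hset ▸ Q.2 : Q.1 ∈ ({P0} : Set _)))) hQ)]
    at hsum
  have hdeg : Module.finrank R O = r := by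
    rw [← hr]
    exact (IsIntegralClosure.rank R K L O)
  have hf : P0.inertiaDeg R = 1 := by
    rw [Ideal.inertiaDeg_eq_of_isMaximal (IsLocalRing.maximalIdeal R) P0]
    refine le_antisymm ?_ Module.finrank_pos
    refine finrank_le_one (1 : O ⧸ P0) fun w => ?_
    obtain ⟨o, rfl⟩ := Ideal.Quotient.mk_surjective w
    obtain ⟨c, hc⟩ := exists_sub_mem W hW hI L hrk hr o
    refine ⟨Ideal.Quotient.mk _ c, ?_⟩
    rw [Algebra.smul_def, mul_one]
    change Ideal.Quotient.mk P0 (algebraMap R O c) = _
    refine (Ideal.Quotient.eq.2 ((hP0 _).2 ?_)).symm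
    simpa [coe_algMap] using hc
  simp only [hf, mul_one, hdeg] at hsum
  refine ⟨fun P hP => by rw [huniq P hP]; exact hsum, ?_⟩
  haveI : IsDiscreteValuationRing O := by
    have : ¬ IsField O := fun h => by
      have := IsLocalRing.isField_iff_maximalIdeal_eq.1 h
      rw [hmax] at this
      have hπ0 : algebraMap R O π ∈ P0 := by
        rw [← Ideal.mem_comap, hunder P0 hP0max]
        exact hπ.not_isUnit
      rw [this, Ideal.mem_bot] at hπ0
      exact hπ.ne_zero (FaithfulSMul.algebraMap_injective R L (by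
        rw [IsScalarTower.algebraMap_apply R O L, hπ0, map_zero, map_zero]))
    exact ((IsDiscreteValuationRing.TFAE O this).out 0 2).2 (inferInstance : IsDedekindDomain O)
  obtain ⟨ϖ, hϖ⟩ := IsDiscreteValuationRing.exists_irreducible O
  have hπO : algebraMap R O π ≠ 0 := fun h => hπ.ne_zero (FaithfulSMul.algebraMap_injective R L (by
    rw [IsScalarTower.algebraMap_apply R O L, h, map_zero, map_zero]))
  obtain ⟨n, u, hn⟩ := IsDiscreteValuationRing.eq_unit_mul_pow_irreducible hπO hϖ
  have hmap : (IsLocalRing.maximalIdeal R).map (algebraMap R O) = P0 ^ n := by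
    rw [Irreducible.maximalIdeal_eq hπ, ← hmax, Irreducible.maximalIdeal_eq hϖ, Ideal.map_span,
      Set.image_singleton, Ideal.span_singleton_pow, hn]
    exact Ideal.span_singleton_mul_left_unit u.isUnit _
  have hPprime : Prime P0 := Ideal.prime_of_isPrime (by
    rw [← hmax]; exact IsDiscreteValuationRing.not_a_field O) hP0max.isPrime
  have hnr : n = r := by
    rw [← hsum, Ideal.IsDedekindDomain.ramificationIdx_eq_multiplicity (IsLocalRing.maximalIdeal R) P0
      (by rw [hmap]; exact pow_ne_zero _ hPprime.ne_zero), hmap, multiplicity_pow_self_of_prime hPprime]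
  subst hnr
  have hu : W.valuation (((u : O) : L) : Ω) = 1 := by
    refine le_antisymm (v_le_one_int W hW L _) (not_lt.1 fun h => ?_)
    exact hP0max.ne_top (Ideal.eq_top_of_isUnit_mem _ ((hP0 _).2 h) u.isUnit)
  obtain ⟨y, hy⟩ := IsSepClosed.exists_pow_nat_eq (k := Ω) (((u : O) : L) : Ω) n (hn := ⟨by
    intro h
    have := v_natCast W hW hrk
    rw [h, map_zero] at this
    exact zero_ne_one this⟩)
  have hvy : W.valuation y = 1 := by
    rw [← pow_eq_one_iff_of_nonneg zero_le' hr0, ← map_pow, hy, hu]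
  have hyL : y ∈ L := mem_of_pow_mem W hW hI hrk L hvy (hy ▸ ((u : O) : L).2)
  refine ⟨y * ((ϖ : L) : Ω), mul_mem hyL (ϖ : L).2, ?_⟩
  have := congrArg (fun z : O => ((z : L) : Ω)) hn
  rw [mul_pow, hy]
  simpa [coe_algMap] using this.symm

include hW hI in
theorem mem_of_pow_eq {r : ℕ} (hrk : (r : IsLocalRing.ResidueField R) ≠ 0) (M : IntermediateField K Ω)
    {x y : Ω} (hx : x ∈ M) (hxy : x ^ r = y ^ r) (hx0 : x ≠ 0) : y ∈ M := by
  have hr0 : r ≠ 0 := by rintro rfl; simp at hrk
  have h : (y / x) ^ r = 1 := by rw [div_pow, hxy, div_self (hxy ▸ pow_ne_zero _ hx0)]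
  have h' := mem_of_pow_mem W hW hI hrk M (y := y / x)
    (by rw [← pow_eq_one_iff_of_nonneg zero_le' hr0, ← map_pow, h, map_one]) (h ▸ one_mem M)
  simpa [hx0] using mul_mem h' hx

include hW hI in
theorem existsUnique {r : ℕ} (hrk : (r : IsLocalRing.ResidueField R) ≠ 0) :
    ∃! L : IntermediateField K Ω, Module.finrank K L = r ∧ IsGalois K L := by
  have hr0 : r ≠ 0 := by rintro rfl; simp at hrk
  haveI : IsGalois K Ω := inferInstance
  haveI : IsSepClosed Ω := IsSepClosure.sep_closed K
  obtain ⟨π, hπ⟩ := IsDiscreteValuationRing.exists_irreducible R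
  have hπΩ : algebraMap R Ω π ≠ 0 := by
    rw [IsScalarTower.algebraMap_apply R K Ω, ← map_zero (algebraMap K Ω), ← map_zero (algebraMap R K)]
    exact fun h => hπ.ne_zero (IsFractionRing.injective R K ((algebraMap K Ω).injective h))
  obtain ⟨x, hx⟩ := IsSepClosed.exists_pow_nat_eq (k := Ω) (algebraMap R Ω π) r (hn := ⟨by
    intro h
    have := v_natCast W hW hrk
    rw [h, map_zero] at this
    exact zero_ne_one this⟩)
  have hx0 : x ≠ 0 := by
    rintro rfl
    exact hπΩ (by rw [← hx, zero_pow hr0])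
  let f : R[X] := X ^ r - C π
  have hfm : f.Monic := monic_X_pow_sub_C π hr0
  have hfirr : Irreducible f := by
    refine IsEisensteinAt.irreducible (𝓟 := IsLocalRing.maximalIdeal R) ?_ inferInstance
      hfm.isPrimitive (by rw [natDegree_X_pow_sub_C]; exact Nat.pos_of_ne_zero hr0)
    refine ⟨?_, fun {n} hn => ?_, ?_⟩
    · rw [hfm.leadingCoeff]
      exact fun h => (IsLocalRing.maximalIdeal.isMaximal R).ne_top (Ideal.eq_top_iff_one _ |>.2 h)
    · rw [natDegree_X_pow_sub_C] at hn
      rw [coeff_sub, coeff_X_pow, if_neg hn.ne, coeff_C]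
      split_ifs
      · simpa using hπ.not_isUnit
      · simp
    · rw [coeff_sub, coeff_X_pow, if_neg (Ne.symm hr0), coeff_C_zero, zero_sub, neg_mem_iff,
        Irreducible.maximalIdeal_eq hπ, Ideal.span_singleton_pow, Ideal.mem_span_singleton]
      exact fun ⟨c, hc⟩ => hπ.not_isUnit (IsUnit.of_mul_eq_one c (mul_left_cancel₀ hπ.ne_zero
        (by rw [← mul_assoc, ← sq, ← hc, mul_one])))
  have hKirr : Irreducible (f.map (algebraMap R K)) :=
    (hfm.irreducible_iff_irreducible_map_fraction_map).1 hfirr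
  have hmin : minpoly K x = f.map (algebraMap R K) := by
    refine (minpoly.eq_of_irreducible_of_monic hKirr ?_ (hfm.map _)).symm
    simp [f, hx, ← IsScalarTower.algebraMap_apply]
  have hint : IsIntegral K x := Algebra.IsIntegral.isIntegral x
  have hrank : Module.finrank K K⟮x⟯ = r := by
    rw [IntermediateField.adjoin.finrank hint, hmin, natDegree_map_eq_of_injective
      (IsFractionRing.injective R K), natDegree_X_pow_sub_C]
  haveI : Algebra.IsSeparable K K⟮x⟯ := Algebra.isSeparable_tower_bot_of_isSeparable K K⟮x⟯ Ω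
  have hnormal : Normal K K⟮x⟯ := by
    rw [IntermediateField.normal_iff_forall_map_le']
    intro σ
    rw [IntermediateField.adjoin_map, IntermediateField.adjoin_le_iff, Set.image_singleton,
      Set.singleton_subset_iff]
    refine mem_of_pow_eq W hW hI hrk _ (IntermediateField.mem_adjoin_simple_self K x) ?_ hx0
    change x ^ r = (σ x) ^ r
    rw [← map_pow, hx, IsScalarTower.algebraMap_apply R K Ω, AlgEquiv.commutes]
  refine ⟨K⟮x⟯, ⟨hrank, ⟨⟩⟩, ?_⟩
  rintro L ⟨hL, hG⟩
  haveI := hG
  haveI : FiniteDimensional K L := Module.finite_of_finrank_pos (hL ▸ Nat.pos_of_ne_zero hr0)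
  obtain ⟨-, y, hyL, hy⟩ := totally_ramified W hW hI L hrk hL hπ
  refine (IntermediateField.eq_of_le_of_finrank_eq ?_ (hrank.trans hL.symm)).symm
  rw [IntermediateField.adjoin_simple_le_iff]
  exact mem_of_pow_eq W hW hI hrk L hyL (hy.trans hx.symm) (by
    rintro rfl
    exact hπΩ (by rw [← hy, zero_pow hr0]))

end Groth.Agent.Lib.TameUniq.Basic
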